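import Cfsg.Agent.Lib.Helper35.PresONN
import Cfsg.Agent.Lib.Helper35.TCFast

namespace Cfsg.Agent.Lib.Helper35.ONN57

open Cfsg.Agent.Lib.Helper35

set_option maxRecDepth 100000
noncomputable section
noncomputable def tA0 : Nat := 0x9c0f72722c09b0af2682b8990750e61c5f636b2da3a1f53696c8c848fae234a19d500662c64746d11b1ae478491192382448b0902281602a85349c734a78ca49872ce41451066182494718840820800
noncomputable def tJ0 : Nat := 0x40100000000000000000002008020040100003000000100400c05000020140200001004010040000000000000000000002008020040100003000000100700003008000000101800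
noncomputable def tA1 : Nat := 0x7b9792703d4580f315e3c4570760e81c895c2d758ea59412a144280b1ba723ec91b32e12ca368af0d72b84746c092236354488d31201642b05421aa3d0720b31443042a09208718c408308e50840800
noncomputable def tJ1 : Nat := 0x10000000200002000020000100401010000000300c000000000c0000c00000000000400004000000080000002000020000100401010000000300c000000000800000050040000000
noncomputable def tA2 : Nat := 0x29cd789ef0ccb93b18ec6d5fa0ad1582ac3806f0dd0a8728e37cee989489e2502744e09b5be190310610c0a694a9544ae84d6c9984ac23c4708d0a41442820b498318e42092084284114710211421800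
noncomputable def tJ2 : Nat := 0x140501403010030000000000000000040100402008020100400000000000000000801004010040500c04014030000000000000000040100402000020100000c00000000000100400
noncomputable def tA3 : Nat := 0x5b0b51601e43c4338e90c6390777defb8550a91501b43606b6c8f81b1ba774a98950ba663e2644c09612a2482f05d1221702d9d34281682b99011822c4504f09c1352494530e418c408308820461000
noncomputable def tJ3 : Nat := 0x1004030000300001008020000000001004010140001000000020080501000000000000000401000010040300001004020000000001004010140700c04000000040600000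
noncomputable def tA4 : Nat := 0x25c4f98ef0ce1a4758eccc5b93ef860bb9d63ed55629c520a20d4e984f06913a1a17032113419431a9b5b817d8c3594ae84d0a2554acb48e821151e634e70891102142604b2082082514718611820800
noncomputable def tJ4 : Nat := 0x800008040140000004000030000300800008000000000405000010000100c000000100402000010100000804014000000300c0000802000000000000401010000040000c0101800
noncomputable def tA5 : Nat := 0x29c5799ef3d69b4318651ce3a4b07dd0be36bab7d90a9b43a974cf9d91aa06caa85712e453e96d2e29d53c85d0aa164b49612ca134a8745091d031c73cc694b318528838842923186184820a20421000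
noncomputable def tJ5 : Nat := 0x4000040500005010000000200800004010000300c000100000c02000020000000c01004000000101404000000000500002000020040000403000030100000003008060000001800
noncomputable def tA6 : Nat := 0x0
noncomputable def tJ6 : Nat := 0x0
noncomputable def tP : Nat := 0x367abc1e070179bc5c6e16ab156aa74ba1cf2491488401e8f2763a9c4da6a32d86b355a4d229045a251081401e8e46a3196ca64c220b050250c850241b050340000
def par : Par := ⟨11, 6, 2047, 63, 2111, 2048⟩
def tabs : Nat → Nat
  | 0 => tA0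
  | 1 => tA1
  | 2 => tA2
  | 3 => tA3
  | 4 => tA4
  | 5 => tA5
  | 6 => tA6
  | _ => 0
def pe (u : Nat) : Nat := Nat.land (Nat.shiftRight tP (Nat.mul u 9)) 511
def je0 (v : Nat) : Nat := Nat.land (Nat.shiftRight tJ0 (Nat.mul v 10)) 1023
def stp0 (off v : Nat) : Nat := Nat.land (Nat.add (Nat.land (Nat.shiftRight tA0 (Nat.mul v 11)) 2047) off) 2111
theorem stp0_eq : ∀ off v, stp0 off v = step par (tabs 0) off v := fun _ _ => rfl
attribute [irreducible] stp0
def je1 (v : Nat) : Nat := Nat.land (Nat.shiftRight tJ1 (Nat.mul v 10)) 1023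
def stp1 (off v : Nat) : Nat := Nat.land (Nat.add (Nat.land (Nat.shiftRight tA1 (Nat.mul v 11)) 2047) off) 2111
theorem stp1_eq : ∀ off v, stp1 off v = step par (tabs 1) off v := fun _ _ => rfl
attribute [irreducible] stp1
def je2 (v : Nat) : Nat := Nat.land (Nat.shiftRight tJ2 (Nat.mul v 10)) 1023
def stp2 (off v : Nat) : Nat := Nat.land (Nat.add (Nat.land (Nat.shiftRight tA2 (Nat.mul v 11)) 2047) off) 2111
theorem stp2_eq : ∀ off v, stp2 off v = step par (tabs 2) off v := fun _ _ => rfl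
attribute [irreducible] stp2
def je3 (v : Nat) : Nat := Nat.land (Nat.shiftRight tJ3 (Nat.mul v 10)) 1023
def stp3 (off v : Nat) : Nat := Nat.land (Nat.add (Nat.land (Nat.shiftRight tA3 (Nat.mul v 11)) 2047) off) 2111
theorem stp3_eq : ∀ off v, stp3 off v = step par (tabs 3) off v := fun _ _ => rfl
attribute [irreducible] stp3
def je4 (v : Nat) : Nat := Nat.land (Nat.shiftRight tJ4 (Nat.mul v 10)) 1023
def stp4 (off v : Nat) : Nat := Nat.land (Nat.add (Nat.land (Nat.shiftRight tA4 (Nat.mul v 11)) 2047) off) 2111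
theorem stp4_eq : ∀ off v, stp4 off v = step par (tabs 4) off v := fun _ _ => rfl
attribute [irreducible] stp4
def je5 (v : Nat) : Nat := Nat.land (Nat.shiftRight tJ5 (Nat.mul v 10)) 1023
def stp5 (off v : Nat) : Nat := Nat.land (Nat.add (Nat.land (Nat.shiftRight tA5 (Nat.mul v 11)) 2047) off) 2111
theorem stp5_eq : ∀ off v, stp5 off v = step par (tabs 5) off v := fun _ _ => rfl
attribute [irreducible] stp5
def je6 (v : Nat) : Nat := Nat.land (Nat.shiftRight tJ6 (Nat.mul v 10)) 1023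
def stp6 (off v : Nat) : Nat := Nat.land (Nat.add (Nat.land (Nat.shiftRight tA6 (Nat.mul v 11)) 2047) off) 2111
theorem stp6_eq : ∀ off v, stp6 off v = step par (tabs 6) off v := fun _ _ => rfl
attribute [irreducible] stp6
def je : Nat → Nat → Nat
  | 0 => je0
  | 1 => je1
  | 2 => je2
  | 3 => je3
  | 4 => je4
  | 5 => je5
  | 6 => je6
  | _ => fun _ => 0
def st : Nat → Nat → Nat → Nat
  | 0 => stp0
  | 1 => stp1
  | 2 => stp2
  | 3 => stp3
  | 4 => stp4
  | 5 => stp5
  | 6 => stp6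
  | _ => fun off v => step par 0 off v
theorem hst : ∀ l off v, st l off v = step par (tabs l) off v := by
  intro l off v
  rcases Nat.lt_or_ge l 7 with h | h
  · interval_cases l
    exacts [stp0_eq off v, stp1_eq off v, stp2_eq off v, stp3_eq off v, stp4_eq off v, stp5_eq off v, stp6_eq off v]
  · obtain ⟨k, rfl⟩ : ∃ k, l = k + 7 := ⟨l - 7, by omega⟩
    rfl
def SL : List (List (Cfsg.Agent.Lib.Helper35.ONN.Gen × Bool)) := [
  [(.b, true)],
  [(.e, true)],
  [(.f, true), (.d, true)],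
  [(.c, true), (.d, true), (.b, false), (.c, true)]]
def S : List (List Nat) := [[0],
  [4],
  [5, 3],
  [2, 3, 1, 2]]
theorem hS : S = SL.map (List.map PresONN.cc.colOf) := by decide +kernel
set_option maxRecDepth 100000
def lf0_0 : Leaf (walkS st) := ⟨[1], [], 1, 0, (fun off v => (stp1 off v)), (fun _ v => v), (fun _ u _ => u), fun _ _ => rfl, fun _ _ => rfl⟩
def lf0_1 : Leaf (walkS st) := ⟨[], [3, 1, 3], 15, 0, (fun _ v => v), (fun off v => (stp3 off (stp1 off (stp3 off v)))), (fun v _ _ => v), fun _ _ => rfl, fun _ _ => rfl⟩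
def lf0_3 : Leaf (walkS st) := ⟨[], [4, 1, 4], 17, 2, (fun _ v => v), (fun off v => (stp4 off (stp1 off (stp4 off v)))), (fun v _ _ => v), fun _ _ => rfl, fun _ _ => rfl⟩
def lf0_4 : Leaf (walkS st) := ⟨[], [1, 1], 12, 1, (fun _ v => v), (fun off v => (stp1 off (stp1 off v))), (fun v _ _ => v), fun _ _ => rfl, fun _ _ => rfl⟩
def lf0_5 : Leaf (walkS st) := ⟨[], [2, 1, 2, 1, 2], 13, 2, (fun _ v => v), (fun off v => (stp2 off (stp1 off (stp2 off (stp1 off (stp2 off v)))))), (fun v _ _ => v), fun _ _ => rfl, fun _ _ => rfl⟩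
def lf0_6 : Leaf (walkS st) := ⟨[], [], 0, 0, (fun _ v => v), (fun _ v => v), (fun _ _ _ => 1), fun _ _ => rfl, fun _ _ => rfl⟩
def lf0_7 : Leaf (walkS st) := ⟨[], [5, 1, 5], 19, 2, (fun _ v => v), (fun off v => (stp5 off (stp1 off (stp5 off v)))), (fun v _ _ => v), fun _ _ => rfl, fun _ _ => rfl⟩
def tree0 : RTree (walkS st) :=
  (.node 1 (.fork lf0_0) (.node 2 (.fork lf0_1) (.node 3 .tleaf (.node 4 (.fork lf0_3) (.node 5 (.fork lf0_4) (.node 6 (.fork lf0_5) (.node 7 (.sub lf0_6) (.fork lf0_7))))))))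
def lf1_0 : Leaf (walkS st) := ⟨[0], [], 0, 0, (fun off v => (stp0 off v)), (fun _ v => v), (fun _ u _ => u), fun _ _ => rfl, fun _ _ => rfl⟩
def lf1_2 : Leaf (walkS st) := ⟨[], [0, 0], 28, 1, (fun _ v => v), (fun off v => (stp0 off (stp0 off v))), (fun v _ _ => v), fun _ _ => rfl, fun _ _ => rfl⟩
def lf1_3 : Leaf (walkS st) := ⟨[], [4, 0, 4], 18, 2, (fun _ v => v), (fun off v => (stp4 off (stp0 off (stp4 off v)))), (fun v _ _ => v), fun _ _ => rfl, fun _ _ => rfl⟩
def lf1_4 : Leaf (walkS st) := ⟨[], [3, 0, 3], 16, 2, (fun _ v => v), (fun off v => (stp3 off (stp0 off (stp3 off v)))), (fun v _ _ => v), fun _ _ => rfl, fun _ _ => rfl⟩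
def lf1_5 : Leaf (walkS st) := ⟨[2, 3], [2], 3, 0, (fun off v => (stp3 off (stp2 off v))), (fun off v => (stp2 off v)), (fun _ _ _ => 1), fun _ _ => rfl, fun _ _ => rfl⟩
def tree1 : RTree (walkS st) :=
  (.node 1 (.fork lf1_0) (.node 3 (.node 2 .tleaf (.fork lf1_2)) (.node 4 (.fork lf1_3) (.node 5 (.fork lf1_4) (.sub lf1_5)))))
def lf2_0 : Leaf (walkS st) := ⟨[2], [], 2, 0, (fun off v => (stp2 off v)), (fun _ v => v), (fun _ u _ => u), fun _ _ => rfl, fun _ _ => rfl⟩
def lf2_2 : Leaf (walkS st) := ⟨[], [4, 2, 4], 7, 2, (fun _ v => v), (fun off v => (stp4 off (stp2 off (stp4 off v)))), (fun v _ _ => v), fun _ _ => rfl, fun _ _ => rfl⟩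
def lf2_3 : Leaf (walkS st) := ⟨[], [0, 2, 0, 2, 0], 14, 1, (fun _ v => v), (fun off v => (stp0 off (stp2 off (stp0 off (stp2 off (stp0 off v)))))), (fun v _ _ => v), fun _ _ => rfl, fun _ _ => rfl⟩
def lf2_4 : Leaf (walkS st) := ⟨[], [1, 2, 1, 2, 1], 13, 1, (fun _ v => v), (fun off v => (stp1 off (stp2 off (stp1 off (stp2 off (stp1 off v)))))), (fun v _ _ => v), fun _ _ => rfl, fun _ _ => rfl⟩
def lf2_5 : Leaf (walkS st) := ⟨[], [3, 5, 2, 3, 2, 3, 2, 3], 21, 2, (fun _ v => v), (fun off v => (stp3 off (stp2 off (stp3 off (stp2 off (stp3 off (stp2 off (stp5 off (stp3 off v))))))))), (fun v _ _ => v), fun _ _ => rfl, fun _ _ => rfl⟩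
def tree2 : RTree (walkS st) :=
  (.node 1 (.fork lf2_0) (.node 3 (.node 2 .tleaf (.fork lf2_2)) (.node 4 (.fork lf2_3) (.node 5 (.fork lf2_4) (.fork lf2_5)))))
def lf3_0 : Leaf (walkS st) := ⟨[3], [], 3, 0, (fun off v => (stp3 off v)), (fun _ v => v), (fun _ u _ => u), fun _ _ => rfl, fun _ _ => rfl⟩
def lf3_2 : Leaf (walkS st) := ⟨[], [2, 3, 5, 2, 3, 2, 3, 2], 21, 3, (fun _ v => v), (fun off v => (stp2 off (stp3 off (stp2 off (stp3 off (stp2 off (stp5 off (stp3 off (stp2 off v))))))))), (fun v _ _ => v), fun _ _ => rfl, fun _ _ => rfl⟩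
def lf3_3 : Leaf (walkS st) := ⟨[], [0, 3, 0], 16, 1, (fun _ v => v), (fun off v => (stp0 off (stp3 off (stp0 off v)))), (fun v _ _ => v), fun _ _ => rfl, fun _ _ => rfl⟩
def lf3_4 : Leaf (walkS st) := ⟨[], [4, 3, 4, 3, 4], 9, 2, (fun _ v => v), (fun off v => (stp4 off (stp3 off (stp4 off (stp3 off (stp4 off v)))))), (fun v _ _ => v), fun _ _ => rfl, fun _ _ => rfl⟩
def lf3_5 : Leaf (walkS st) := ⟨[], [1, 3, 1], 15, 1, (fun _ v => v), (fun off v => (stp1 off (stp3 off (stp1 off v)))), (fun v _ _ => v), fun _ _ => rfl, fun _ _ => rfl⟩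
def lf3_6 : Leaf (walkS st) := ⟨[5], [], 2, 0, (fun off v => (stp5 off v)), (fun _ v => v), (fun _ _ _ => 1), fun _ _ => rfl, fun _ _ => rfl⟩
def lf3_7 : Leaf (walkS st) := ⟨[], [5, 3, 5], 10, 2, (fun _ v => v), (fun off v => (stp5 off (stp3 off (stp5 off v)))), (fun v _ _ => v), fun _ _ => rfl, fun _ _ => rfl⟩
def tree3 : RTree (walkS st) :=
  (.node 1 (.fork lf3_0) (.node 2 .tleaf (.node 4 (.node 3 (.fork lf3_2) (.fork lf3_3)) (.node 5 (.fork lf3_4) (.node 6 (.fork lf3_5) (.node 7 (.sub lf3_6) (.fork lf3_7)))))))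
def lf4_0 : Leaf (walkS st) := ⟨[4], [], 4, 0, (fun off v => (stp4 off v)), (fun _ v => v), (fun _ u _ => u), fun _ _ => rfl, fun _ _ => rfl⟩
def lf4_2 : Leaf (walkS st) := ⟨[], [3, 4, 3, 4, 3], 9, 1, (fun _ v => v), (fun off v => (stp3 off (stp4 off (stp3 off (stp4 off (stp3 off v)))))), (fun v _ _ => v), fun _ _ => rfl, fun _ _ => rfl⟩
def lf4_3 : Leaf (walkS st) := ⟨[], [2, 4, 2], 7, 1, (fun _ v => v), (fun off v => (stp2 off (stp4 off (stp2 off v)))), (fun v _ _ => v), fun _ _ => rfl, fun _ _ => rfl⟩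
def lf4_4 : Leaf (walkS st) := ⟨[], [0, 4, 0], 18, 1, (fun _ v => v), (fun off v => (stp0 off (stp4 off (stp0 off v)))), (fun v _ _ => v), fun _ _ => rfl, fun _ _ => rfl⟩
def lf4_5 : Leaf (walkS st) := ⟨[], [1, 4, 1], 17, 1, (fun _ v => v), (fun off v => (stp1 off (stp4 off (stp1 off v)))), (fun v _ _ => v), fun _ _ => rfl, fun _ _ => rfl⟩
def lf4_6 : Leaf (walkS st) := ⟨[], [], 1, 0, (fun _ v => v), (fun _ v => v), (fun _ _ _ => 1), fun _ _ => rfl, fun _ _ => rfl⟩
def tree4 : RTree (walkS st) :=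
  (.node 1 (.fork lf4_0) (.node 3 (.node 2 .tleaf (.fork lf4_2)) (.node 4 (.fork lf4_3) (.node 5 (.fork lf4_4) (.node 6 (.fork lf4_5) (.sub lf4_6))))))
def lf5_0 : Leaf (walkS st) := ⟨[5], [], 5, 0, (fun off v => (stp5 off v)), (fun _ v => v), (fun _ u _ => u), fun _ _ => rfl, fun _ _ => rfl⟩
def lf5_1 : Leaf (walkS st) := ⟨[], [3, 5, 3], 10, 1, (fun _ v => v), (fun off v => (stp3 off (stp5 off (stp3 off v)))), (fun v _ _ => v), fun _ _ => rfl, fun _ _ => rfl⟩
def lf5_2 : Leaf (walkS st) := ⟨[], [2, 5, 2], 8, 1, (fun _ v => v), (fun off v => (stp2 off (stp5 off (stp2 off v)))), (fun v _ _ => v), fun _ _ => rfl, fun _ _ => rfl⟩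
def lf5_3 : Leaf (walkS st) := ⟨[], [4, 5, 4, 5, 4], 11, 1, (fun _ v => v), (fun off v => (stp4 off (stp5 off (stp4 off (stp5 off (stp4 off v)))))), (fun v _ _ => v), fun _ _ => rfl, fun _ _ => rfl⟩
def lf5_4 : Leaf (walkS st) := ⟨[], [1, 5, 1], 19, 1, (fun _ v => v), (fun off v => (stp1 off (stp5 off (stp1 off v)))), (fun v _ _ => v), fun _ _ => rfl, fun _ _ => rfl⟩
def lf5_5 : Leaf (walkS st) := ⟨[], [0, 5, 0], 20, 1, (fun _ v => v), (fun off v => (stp0 off (stp5 off (stp0 off v)))), (fun v _ _ => v), fun _ _ => rfl, fun _ _ => rfl⟩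
def tree5 : RTree (walkS st) :=
  (.node 1 (.fork lf5_0) (.node 3 (.node 2 (.fork lf5_1) (.fork lf5_2)) (.node 4 (.fork lf5_3) (.node 5 (.fork lf5_4) (.node 6 (.fork lf5_5) .tleaf)))))
def tree6 : RTree (walkS st) :=
  .tleaf
def trees : Nat → RTree (walkS st)
  | 0 => tree0
  | 1 => tree1
  | 2 => tree2
  | 3 => tree3
  | 4 => tree4
  | 5 => tree5
  | 6 => tree6
  | _ => .tleaf
noncomputable def fs0 (v : Nat) : Bool := chkSlot par tA0 je0 pe 4 15 8 (deadF par tA6) (fun _ => 57) tree0 0 v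
noncomputable def fs1 (v : Nat) : Bool := chkSlot par tA1 je1 pe 4 15 8 (deadF par tA6) (fun _ => 57) tree1 1 v
noncomputable def fs2 (v : Nat) : Bool := chkSlot par tA2 je2 pe 4 15 8 (deadF par tA6) (fun _ => 57) tree2 2 v
noncomputable def fs3 (v : Nat) : Bool := chkSlot par tA3 je3 pe 4 15 8 (deadF par tA6) (fun _ => 57) tree3 3 v
noncomputable def fs4 (v : Nat) : Bool := chkSlot par tA4 je4 pe 4 15 8 (deadF par tA6) (fun _ => 57) tree4 4 v
noncomputable def fs5 (v : Nat) : Bool := chkSlot par tA5 je5 pe 4 15 8 (deadF par tA6) (fun _ => 57) tree5 5 v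
noncomputable def fs6 (v : Nat) : Bool := chkSlot par tA6 je6 pe 4 15 8 (fun _ => true) (fun v => Nat.pred v) tree6 6 v
def gl (k : Nat) : Bool := liveF par tA6 (Nat.succ k)

end

end Cfsg.Agent.Lib.Helper35.ONN57
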