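import Cfsg.Agent.Lib.Helper35.PresONN
import Cfsg.Agent.Lib.Helper35.TCFast
import Cfsg.Agent.Lib.Helper35.ONN57.Data

namespace Cfsg.Agent.Lib.Helper35.ONN57

open Cfsg.Agent.Lib.Helper35

set_option maxRecDepth 100000
noncomputable section
noncomputable def tQ0 : Nat := 0x37db8bf5bb3b71d32c2baac9e9a2381e86499f96271969675161b4153d35d448d30e24b2871462011020c0
@[irreducible] def p0 (i : Nat) : Nat := Nat.land (Nat.shiftRight tQ0 (Nat.mul i 6)) 63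
noncomputable def tQ1 : Nat := 0x36e37d2fcaec2dd73c6ab2ba27a617e299e8e582465d59b71745a51048f6154cc38d2892c52061c3042100
@[irreducible] def p1 (i : Nat) : Nat := Nat.land (Nat.shiftRight tQ1 (Nat.mul i 6)) 63
noncomputable def tQ2 : Nat := 0x38df6cb1c35d33b2baafbada648a696876771b69e8e181f6544d64985d538d31140f28b187209083105001
@[irreducible] def p2 (i : Nat) : Nat := Nat.land (Nat.shiftRight tQ2 (Nat.mul i 6)) 63
noncomputable def tQ3 : Nat := 0x35d2fe37cb3c31daeb69a27b2baa37e29a486095e61755445d7106da4936563cb28938d3081461c40400c2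
@[irreducible] def p3 (i : Nat) : Nat := Nat.land (Nat.shiftRight tQ3 (Nat.mul i 6)) 63
noncomputable def tQ4 : Nat := 0x37e36cb3d35c31bafb6bb2a9a386995da1c9df81992269b79761649351544f40e30d20714b282243106040
@[irreducible] def p4 (i : Nat) : Nat := Nat.land (Nat.shiftRight tQ4 (Nat.mul i 6)) 63
noncomputable def tQ5 : Nat := 0x37e36d35c31cb3bedbacaaba67a259a27e48218de69b71d5945595d84934113cd38c28b2440c60481c0142
@[irreducible] def p5 (i : Nat) : Nat := Nat.land (Nat.shiftRight tQ5 (Nat.mul i 6)) 63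
def pt : Nat → Nat → Nat
  | 0 => p0
  | 1 => p1
  | 2 => p2
  | 3 => p3
  | 4 => p4
  | 5 => p5
  | _ => fun i => i
noncomputable def tT : Nat := 0x1abd1deef378b8dc2d368b156aa54ba1cee691c86421f0ec75391c4da6933186bb55a8d16894420d02803c9e0e46a3116ca64b220f058250e8501a090400c0400
def tp (i : Nat) : Nat := Nat.land (Nat.shiftRight tT (Nat.mul i 9)) 511
set_option maxRecDepth 100000
def rl0 : PLeaf pt := ⟨[2, 3, 2, 3, 2, 3, 2, 3, 2, 3, 2, 3, 2, 3, 2, 3], (fun i => (p3 (p2 (p3 (p2 (p3 (p2 (p3 (p2 (p3 (p2 (p3 (p2 (p3 (p2 (p3 (p2 i))))))))))))))))), fun _ => rfl⟩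
def rl1 : PLeaf pt := ⟨[2, 4, 2, 4], (fun i => (p4 (p2 (p4 (p2 i))))), fun _ => rfl⟩
def rl2 : PLeaf pt := ⟨[2, 5, 2, 5], (fun i => (p5 (p2 (p5 (p2 i))))), fun _ => rfl⟩
def rl3 : PLeaf pt := ⟨[3, 4, 3, 4, 3, 4], (fun i => (p4 (p3 (p4 (p3 (p4 (p3 i))))))), fun _ => rfl⟩
def rl4 : PLeaf pt := ⟨[3, 5, 3, 5], (fun i => (p5 (p3 (p5 (p3 i))))), fun _ => rfl⟩
def rl5 : PLeaf pt := ⟨[4, 5, 4, 5, 4, 5], (fun i => (p5 (p4 (p5 (p4 (p5 (p4 i))))))), fun _ => rfl⟩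
def rl6 : PLeaf pt := ⟨[0, 0, 0], (fun i => (p0 (p0 (p0 i)))), fun _ => rfl⟩
def rl7 : PLeaf pt := ⟨[0, 2, 0, 2, 0, 2], (fun i => (p2 (p0 (p2 (p0 (p2 (p0 i))))))), fun _ => rfl⟩
def rl8 : PLeaf pt := ⟨[1, 2, 1, 2, 1, 2], (fun i => (p2 (p1 (p2 (p1 (p2 (p1 i))))))), fun _ => rfl⟩
def rl9 : PLeaf pt := ⟨[0, 3, 0, 3], (fun i => (p3 (p0 (p3 (p0 i))))), fun _ => rfl⟩
def rl10 : PLeaf pt := ⟨[1, 3, 1, 3], (fun i => (p3 (p1 (p3 (p1 i))))), fun _ => rfl⟩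
def rl11 : PLeaf pt := ⟨[0, 4, 0, 4], (fun i => (p4 (p0 (p4 (p0 i))))), fun _ => rfl⟩
def rl12 : PLeaf pt := ⟨[1, 4, 1, 4], (fun i => (p4 (p1 (p4 (p1 i))))), fun _ => rfl⟩
def rl13 : PLeaf pt := ⟨[0, 5, 0, 5], (fun i => (p5 (p0 (p5 (p0 i))))), fun _ => rfl⟩
def rl14 : PLeaf pt := ⟨[1, 5, 1, 5], (fun i => (p5 (p1 (p5 (p1 i))))), fun _ => rfl⟩
def rl15 : PLeaf pt := ⟨[5, 3, 2, 3, 2, 3, 2, 3, 2], (fun i => (p2 (p3 (p2 (p3 (p2 (p3 (p2 (p3 (p5 i)))))))))), fun _ => rfl⟩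
def sl0 : PLeaf pt := ⟨[0], (fun i => (p0 i)), fun _ => rfl⟩
def sl1 : PLeaf pt := ⟨[4], (fun i => (p4 i)), fun _ => rfl⟩
def sl2 : PLeaf pt := ⟨[5, 3], (fun i => (p3 (p5 i))), fun _ => rfl⟩
def sl3 : PLeaf pt := ⟨[2, 3, 1, 2], (fun i => (p2 (p1 (p3 (p2 i))))), fun _ => rfl⟩
def rl : List (PLeaf pt) := [rl0, rl1, rl2, rl3, rl4, rl5, rl6, rl7, rl8, rl9, rl10, rl11, rl12, rl13, rl14, rl15]
def sl : List (PLeaf pt) := [sl0, sl1, sl2, sl3]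
noncomputable def fr (i : Nat) : Bool := fixAll rl i
def fc0 (i : Nat) : Bool := invChk p0 p1 57 i
def fc1 (i : Nat) : Bool := invChk p1 p0 57 i
def fc2 (i : Nat) : Bool := invChk p2 p2 57 i
def fc3 (i : Nat) : Bool := invChk p3 p3 57 i
def fc4 (i : Nat) : Bool := invChk p4 p4 57 i
def fc5 (i : Nat) : Bool := invChk p5 p5 57 i
def ft (i : Nat) : Bool := treeStep pt tp 8 6 i
noncomputable def tO : Nat := 0x196196586586176185d75975965565975575155565965565555155555155144d35134d2492453451492400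
def ot (i : Nat) : Nat := Nat.land (Nat.shiftRight tO (Nat.mul i 6)) 63
def rep : Nat → Nat
  | 0 => 0
  | 1 => 1
  | _ => 0
noncomputable def fo (j : Nat) : Bool := orbChk ot 4 rep sl j
def fl0 (j : Nat) : Bool := Nat.beq (Nat.shiftRight (ot j) 4) 0
def fl1 (j : Nat) : Bool := Nat.beq (Nat.shiftRight (ot j) 4) 1

end

end Cfsg.Agent.Lib.Helper35.ONN57
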